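import Mathlib

/-! Integral closures in finite products of normal domains are normal. -/

set_option autoImplicit false

universe u

open Function

namespace Groth.Agent.NormRelLib

theorem exists_idem {B : Type u} [CommRing B] {ι : Type u} [DecidableEq ι] (D : ι → Type u) [∀ i, CommRing (D i)]
    (π : ∀ i, B →+* D i) (hπ : Bijective fun b i => π i b) (i : ι) :
    ∃ e : B, π i e = 1 ∧ (∀ j, j ≠ i → π j e = 0) ∧ e * e = e := by
  obtain ⟨e, he⟩ := hπ.2 (Pi.single i 1)
  have he' : ∀ j, π j e = Pi.single (M := fun j => D j) i 1 j := fun j => congrFun he j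
  refine ⟨e, by rw [he', Pi.single_eq_same], fun j hj => by rw [he', Pi.single_eq_of_ne hj], hπ.1 ?_⟩
  funext j
  simp only [map_mul, he']
  rcases eq_or_ne j i with rfl | hj
  · rw [Pi.single_eq_same, one_mul]
  · rw [Pi.single_eq_of_ne hj, zero_mul]

theorem isIntegral_of_idem (A : Type u) {B : Type u} [CommRing A] [CommRing B] [Algebra A B] {e : B} (he : e * e = e) :
    IsIntegral A e := by
  nontriviality A
  refine ⟨Polynomial.X ^ 2 - Polynomial.X, ?_, ?_⟩
  · exact Polynomial.monic_X_pow_sub (Polynomial.degree_X_le.trans_lt (by norm_num))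
  · simp [sq, he]

/-- The stalks of the integral closure of a ring in a finite product of normal domains are normal domains. -/
theorem normal_localization {A B : Type u} [CommRing A] [CommRing B] [Algebra A B] {ι : Type u} [Finite ι]
    (D : ι → Type u) [∀ i, CommRing (D i)] [∀ i, IsDomain (D i)] [∀ i, IsIntegrallyClosed (D i)]
    (π : ∀ i, B →+* D i) (hπ : Bijective fun b i => π i b)
    (p : Ideal (integralClosure A B)) [p.IsPrime]
    (S : Type u) [CommRing S] [Algebra (integralClosure A B) S] [IsLocalization.AtPrime S p] :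
    IsDomain S ∧ IsIntegrallyClosed S := by
  classical
  haveI := Fintype.ofFinite ι
  let C := integralClosure A B
  choose e he1 he0 hee using exists_idem D π hπ
  let ec : ι → C := fun i => ⟨e i, isIntegral_of_idem A (hee i)⟩
  have hsum : ∑ i, ec i = 1 := by
    refine Subtype.ext (hπ.1 (funext fun j => ?_))
    simp only [AddSubmonoidClass.coe_finsetSum, map_sum, OneMemClass.coe_one, map_one]
    rw [Finset.sum_eq_single j (fun i _ hi => he0 i j hi.symm) (fun h => absurd (Finset.mem_univ j) h), he1]
  obtain ⟨i, hi⟩ : ∃ i, ec i ∉ p := by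
    by_contra! h
    exact Ideal.IsPrime.ne_top ‹_› ((Ideal.eq_top_iff_one p).2 (hsum ▸ sum_mem fun j _ => h j))
  letI : Algebra A (D i) := ((π i).comp (algebraMap A B)).toAlgebra
  let πi : B →ₐ[A] D i := { π i with commutes' := fun a => rfl }
  let E := integralClosure A (D i)
  let q : C →ₐ[A] E := (πi.comp (integralClosure A B).val).codRestrict E fun c => c.2.map πi
  have hq : ∀ c : C, (q c : D i) = π i c := fun c => rfl
  have hker : ∀ c : C, q c = 0 → ec i * c = 0 := fun c hc => by
    refine Subtype.ext (hπ.1 (funext fun j => ?_))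
    simp only [MulMemClass.coe_mul, map_mul, ZeroMemClass.coe_zero, map_zero]
    rcases eq_or_ne j i with rfl | hj
    · rw [show π j (c : B) = 0 from congrArg Subtype.val hc, mul_zero]
    · rw [he0 i j hj, zero_mul]
  have hsurj : Surjective q := fun x => by
    obtain ⟨b, hb⟩ := hπ.2 (Pi.single i (x : D i))
    have hb' : ∀ j, π j b = Pi.single (M := fun j => D j) i (x : D i) j := fun j => congrFun hb j
    obtain ⟨P, hP, hPx⟩ := x.2
    refine ⟨⟨b, Polynomial.X * P, Polynomial.monic_X.mul hP, hπ.1 (funext fun j => ?_)⟩,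
      Subtype.ext (by rw [hq]; exact (hb' i).trans (Pi.single_eq_same _ _))⟩
    simp only [map_zero, Polynomial.eval₂_mul, Polynomial.eval₂_X, map_mul, hb']
    rcases eq_or_ne j i with rfl | hj
    · rw [Polynomial.hom_eval₂, hb', Pi.single_eq_same]
      rw [show Polynomial.eval₂ ((π j).comp (algebraMap A B)) (x : D j) P = 0 from hPx, mul_zero]
    · rw [Pi.single_eq_of_ne hj, zero_mul]
  have hip : RingHom.ker q.toRingHom ≤ p := fun c hc => by
    have := hker c hc
    exact ((Ideal.IsPrime.mem_or_mem ‹p.IsPrime› (this ▸ p.zero_mem)).resolve_left hi)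
  haveI : (p.map q.toRingHom).IsPrime := Ideal.map_isPrime_of_surjective hsurj hip
  let p' := p.map q.toRingHom
  have hcomap : ∀ c : C, q c ∈ p' ↔ c ∈ p := fun c => by
    constructor
    · intro h
      obtain ⟨d, hd, hdc⟩ := (Ideal.mem_map_iff_of_surjective q.toRingHom hsurj).1 h
      have hmem : d - c ∈ p := hip (show q.toRingHom (d - c) = 0 by rw [map_sub]; exact sub_eq_zero.2 hdc)
      simpa using p.sub_mem hd hmem
    · exact fun h => Ideal.mem_map_of_mem _ h
  haveI : IsIntegrallyClosed E := IsIntegrallyClosed.of_isIntegrallyClosed_of_isIntegrallyClosedIn E (D i)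
  let L := Localization.AtPrime p'
  have hle : p.primeCompl ≤ p'.primeCompl.comap q.toRingHom := fun c hc => fun h => hc ((hcomap c).1 h)
  let φ : S →+* L := IsLocalization.map L q.toRingHom hle
  have hφ : Bijective φ := by
    constructor
    · refine (injective_iff_map_eq_zero φ).2 fun z hz => ?_
      obtain ⟨c, s, rfl⟩ := IsLocalization.exists_mk'_eq p.primeCompl z
      rw [IsLocalization.map_mk', IsLocalization.mk'_eq_zero_iff] at hz
      obtain ⟨⟨t, ht⟩, htc⟩ := hz
      obtain ⟨t', rfl⟩ := hsurj t
      rw [IsLocalization.mk'_eq_zero_iff]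
      refine ⟨⟨ec i * t', fun h => (Ideal.IsPrime.mem_or_mem ‹p.IsPrime› h).elim hi fun h' => ht ((hcomap _).2 h')⟩, ?_⟩
      show ec i * t' * c = 0
      rw [mul_assoc]
      exact hker _ (by rw [map_mul]; exact htc)
    · intro z
      obtain ⟨c, ⟨s, hs⟩, rfl⟩ := IsLocalization.exists_mk'_eq p'.primeCompl z
      obtain ⟨c', rfl⟩ := hsurj c
      obtain ⟨s', rfl⟩ := hsurj s
      exact ⟨IsLocalization.mk' S c' (⟨s', fun h => hs ((hcomap _).2 h)⟩ : p.primeCompl), IsLocalization.map_mk' ..⟩
  haveI : IsDomain L := IsLocalization.isDomain_localization p'.primeCompl_le_nonZeroDivisors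
  haveI : IsIntegrallyClosed L := isIntegrallyClosed_of_isLocalization L p'.primeCompl p'.primeCompl_le_nonZeroDivisors
  let eq' := RingEquiv.ofBijective φ hφ
  exact ⟨hφ.1.isDomain, IsIntegrallyClosed.of_equiv eq'.symm⟩

end Groth.Agent.NormRelLib
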