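import Groth.Prelude.Def_Pi1
import Groth.Agent.GenPtLib.Basic
import Groth.Agent.NormalSch.Basic
import Groth.Agent.NormalFibLib.Basic

/-! Irreducible components of normal schemes with locally finitely many components. -/

set_option autoImplicit false
set_option backward.isDefEq.respectTransparency false
set_option linter.style.haveILetI false

universe u

open CategoryTheory AlgebraicGeometry TopologicalSpace Opposite

noncomputable section

namespace Groth.Agent.NormRelLib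

variable {Y : Scheme.{u}} (hY : Pi1.IsNormalScheme Y)

/-- A point with no proper generalization. -/
def IsMax (y : Y) : Prop := ∀ z, z ⤳ y → z = y

theorem isMax_iff (y : Y) : IsMax y ↔ closure {y} ∈ irreducibleComponents ↥Y :=
  ⟨fun h => GenPtLib.closure_mem_irreducibleComponents h,
    fun h _ hz => GenPtLib.eq_of_specializes h isGenericPoint_closure hz⟩

include hY in
theorem max_unique {x y₁ y₂ : Y} (h₁ : IsMax y₁) (h₂ : IsMax y₂) (hs₁ : y₁ ⤳ x) (hs₂ : y₂ ⤳ x) : y₁ = y₂ := by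
  haveI := (hY x).1
  have key : ∀ y : Y, IsMax y → y ⤳ x → y = Y.fromSpecStalk x (⊥ : PrimeSpectrum (Y.presheaf.stalk x)) := by
    intro y hy hs
    have hm : y ∈ Set.range (Y.fromSpecStalk x) := by rw [Scheme.range_fromSpecStalk]; exact hs
    obtain ⟨q, rfl⟩ := hm
    exact (hy _ (Specializes.map ((PrimeSpectrum.le_iff_specializes _ _).1 bot_le) (Y.fromSpecStalk x).continuous)).symm
  rw [key y₁ h₁ hs₁, key y₂ h₂ hs₂]

theorem finite_max (hfin : LocallyFinite (fun Z : ↥(irreducibleComponents ↥Y) => (Z : Set ↥Y))) {W : Set Y}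
    (hW : IsCompact W) : {y : Y | IsMax y ∧ y ∈ W}.Finite := by
  refine Set.Finite.of_finite_image (f := fun y : Y => closure ({y} : Set Y)) ?_
    (fun a _ b _ h => (Inseparable.eq (specializes_iff_closure_subset.2 h.ge |>.antisymm (specializes_iff_closure_subset.2 h.le))))
  refine ((hfin.finite_nonempty_inter_compact hW).image fun Z : ↥(irreducibleComponents ↥Y) => (Z : Set Y)).subset ?_
  rintro _ ⟨y, ⟨hy, hyW⟩, rfl⟩
  exact ⟨⟨_, (isMax_iff y).1 hy⟩, ⟨y, subset_closure rfl, hyW⟩, rfl⟩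

include hY in
/-- A quasi-compact open of `Y` is a finite disjoint union of opens which are integral. -/
theorem exists_pieces (hfin : LocallyFinite (fun Z : ↥(irreducibleComponents ↥Y) => (Z : Set ↥Y))) (W : Y.Opens)
    (hW : IsCompact (W : Set Y)) :
    ∃ (ι : Type u) (_ : Finite ι) (g : ι → Y) (Z : ι → Y.Opens),
      (∀ i, Z i ≤ W) ∧ (∀ i, IsMax (g i) ∧ g i ∈ Z i) ∧ (W ≤ iSup Z) ∧ (∀ i x, x ∈ Z i → g i ⤳ x) ∧
      (∀ y, IsMax y → y ∈ W → ∃ i, g i = y) ∧ (∀ i j, i ≠ j → Z i ⊓ Z j = ⊥) := by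
  haveI : Finite {y : Y | IsMax y ∧ y ∈ W} := (finite_max hfin hW).to_subtype
  let ι := {y : Y // IsMax y ∧ y ∈ W}
  haveI : Finite ι := inferInstanceAs (Finite {y : Y | IsMax y ∧ y ∈ W})
  let Z : ι → Y.Opens := fun i =>
    ⟨(W : Set Y) \ ⋃ j ∈ {j : ι | j ≠ i}, closure {j.1},
      W.2.sdiff ((Set.toFinite _).isClosed_biUnion fun j _ => isClosed_closure)⟩
  have hmem : ∀ i x, x ∈ Z i ↔ x ∈ W ∧ i.1 ⤳ x := by
    intro i x
    constructor
    · rintro ⟨hxW, hx⟩
      obtain ⟨ξ, hξ, hmax⟩ := GenPtLib.exists_maximal x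
      have hξW : ξ ∈ W := hξ.mem_open W.2 hxW
      refine ⟨hxW, ?_⟩
      by_contra hne
      exact hx (Set.mem_iUnion₂.2 ⟨⟨ξ, hmax, hξW⟩, fun h => hne (by rw [← h]; exact hξ),
        specializes_iff_mem_closure.1 hξ⟩)
    · rintro ⟨hxW, hs⟩
      refine ⟨hxW, fun h => ?_⟩
      obtain ⟨j, hj, hjx⟩ := Set.mem_iUnion₂.1 h
      exact hj (Subtype.ext (max_unique hY j.2.1 i.2.1 (specializes_iff_mem_closure.2 hjx) hs))
  refine ⟨ι, inferInstance, Subtype.val, Z, fun i x hx => hx.1, fun i => ⟨i.2.1, (hmem i i.1).2 ⟨i.2.2, specializes_rfl⟩⟩,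
    fun x hx => ?_, fun i x hx => ((hmem i x).1 hx).2, fun y hy hyW => ⟨⟨y, hy, hyW⟩, rfl⟩, fun i j hij => ?_⟩
  · obtain ⟨ξ, hξ, hmax⟩ := GenPtLib.exists_maximal x
    exact Opens.mem_iSup.2 ⟨⟨ξ, hmax, hξ.mem_open W.2 hx⟩, (hmem _ x).2 ⟨hx, hξ⟩⟩
  · refine le_bot_iff.1 fun x hx => hij ?_
    exact Subtype.ext (max_unique hY i.2.1 j.2.1 ((hmem i x).1 hx.1).2 ((hmem j x).1 hx.2).2)

include hY in
theorem isDomain_piece {Z : Y.Opens} {y : Y} (hy : y ∈ Z) (hZ : ∀ x, x ∈ Z → y ⤳ x) :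
    IsDomain Γ(Y, Z) ∧ IsIntegrallyClosed Γ(Y, Z) := by
  haveI : Nonempty Z := ⟨⟨y, hy⟩⟩
  have hN : Pi1.IsNormalScheme Z.toScheme := NormalFibLib.isNormalScheme_of_isOpenImmersion Z.ι hY
  haveI : IrreducibleSpace Z.toScheme := by
    have hg : IsGenericPoint (⟨y, hy⟩ : Z) Set.univ := isGenericPoint_iff_specializes.2 fun x =>
      ⟨fun _ => trivial, fun _ => (subtype_specializes_iff (⟨y, hy⟩ : Z) x).2 (hZ x.1 x.2)⟩
    exact (irreducibleSpace_def _).2 hg.isIrreducible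
  haveI : ∀ x : Z.toScheme, _root_.IsReduced (Z.toScheme.presheaf.stalk x) := fun x => by
    haveI := (hN x).1
    infer_instance
  haveI := isReduced_of_isReduced_stalk Z.toScheme
  haveI := isIntegral_of_irreducibleSpace_of_isReduced Z.toScheme
  haveI : Nonempty (⊤ : Z.toScheme.Opens) := ⟨⟨⟨y, hy⟩, trivial⟩⟩
  haveI := NormalSch.isIntegrallyClosed_section hN (⊤ : Z.toScheme.Opens)
  exact ⟨Z.topIso.symm.commRingCatIsoToRingEquiv.injective.isDomain,
    IsIntegrallyClosed.of_equiv Z.topIso.commRingCatIsoToRingEquiv⟩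

/-- Sections over a finite disjoint union of opens. -/
theorem bijective_pieces {ι : Type u} {W : Y.Opens} {Z : ι → Y.Opens} (hle : ∀ i, Z i ≤ W) (hcov : W ≤ iSup Z)
    (hdis : ∀ i j, i ≠ j → Z i ⊓ Z j = ⊥) :
    Function.Bijective fun (b : Γ(Y, W)) (i : ι) => Y.presheaf.map (homOfLE (hle i)).op b := by
  refine ⟨fun a b h => Y.sheaf.eq_of_locally_eq' Z W (fun i => homOfLE (hle i)) hcov a b fun i => congrFun h i,
    fun s => ?_⟩
  obtain ⟨b, hb, -⟩ := Y.sheaf.existsUnique_gluing' Z W (fun i => homOfLE (hle i)) hcov s (fun i j => by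
    rcases eq_or_ne i j with rfl | hij
    · rfl
    · haveI : Subsingleton Γ(Y, Z i ⊓ Z j) := by rw [hdis i j hij]; infer_instance
      exact Subsingleton.elim (α := Γ(Y, Z i ⊓ Z j)) _ _)
  exact ⟨b, funext hb⟩

end Groth.Agent.NormRelLib
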