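import Groth.Agent.NormRelLib.Algebra
import Groth.Agent.NormRelLib.Comp
import Groth.Agent.S9672

/-! The relative normalisation in a normal scheme with locally finitely many components. -/

set_option autoImplicit false
set_option backward.isDefEq.respectTransparency false
set_option linter.style.haveILetI false

universe u

open CategoryTheory AlgebraicGeometry TopologicalSpace Opposite

noncomputable section

namespace Groth.Agent.NormRelLib

variable {X Y : Scheme.{u}} (f : Y ⟶ X) [QuasiCompact f] [QuasiSeparated f]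

theorem compact_preimage {U : X.Opens} (hU : IsAffineOpen U) : IsCompact ((f ⁻¹ᵁ U : Y.Opens) : Set Y) :=
  f.isCompact_preimage hU.isCompact

theorem preimage_eq (U : X.Opens) : f.toNormalization ⁻¹ᵁ (f.fromNormalization ⁻¹ᵁ U) = f ⁻¹ᵁ U := by
  rw [← Scheme.Hom.comp_preimage, f.toNormalization_fromNormalization]

theorem isNormalScheme (hY : Pi1.IsNormalScheme Y)
    (hfin : LocallyFinite (fun Z : ↥(irreducibleComponents ↥Y) => (Z : Set ↥Y))) :
    Pi1.IsNormalScheme f.normalization := by
  intro x'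
  obtain ⟨U, hU, hxU, -⟩ := exists_isAffineOpen_mem_and_subset (x := f.fromNormalization x') (U := ⊤) trivial
  letI : Algebra Γ(X, U) Γ(Y, f ⁻¹ᵁ U) := (f.app U).hom.toAlgebra
  obtain ⟨ι, hι, g, Z, hle, hg, hcov, hgen, -, hdis⟩ := exists_pieces hY hfin _ (compact_preimage f hU)
  haveI := fun i => (isDomain_piece hY (hg i).2 (hgen i)).1
  haveI := fun i => (isDomain_piece hY (hg i).2 (hgen i)).2
  have hV : IsAffineOpen (f.fromNormalization ⁻¹ᵁ U) := hU.preimage _
  let e : Γ(f.normalization, f.fromNormalization ⁻¹ᵁ U) ≃+* integralClosure Γ(X, U) Γ(Y, f ⁻¹ᵁ U) :=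
    (f.normalizationObjIso hU).commRingCatIsoToRingEquiv
  let P := (hV.primeIdealOf ⟨x', hxU⟩).asIdeal
  letI := f.normalization.presheaf.algebra_section_stalk (⟨x', hxU⟩ : f.fromNormalization ⁻¹ᵁ U)
  haveI := hV.isLocalization_stalk ⟨x', hxU⟩
  letI : Algebra (integralClosure Γ(X, U) Γ(Y, f ⁻¹ᵁ U)) (f.normalization.presheaf.stalk x') :=
    ((algebraMap Γ(f.normalization, f.fromNormalization ⁻¹ᵁ U) (f.normalization.presheaf.stalk x')).comp
      e.symm.toRingHom).toAlgebra
  haveI : IsLocalization.AtPrime (f.normalization.presheaf.stalk x') (P.comap e.symm) := by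
    have h := IsLocalization.isLocalization_of_base_ringEquiv P.primeCompl (f.normalization.presheaf.stalk x') e
    have heq : P.primeCompl.map (e : _ →+* _) = (P.comap e.symm).primeCompl := by
      ext a
      refine ⟨?_, fun ha => ⟨e.symm a, ha, e.apply_symm_apply a⟩⟩
      rintro ⟨b, hb, rfl⟩ h
      exact hb (by simpa using h)
    show IsLocalization (P.comap e.symm).primeCompl _
    rw [← heq]
    exact h
  exact normal_localization (fun i => Γ(Y, Z i)) (fun i => (Y.presheaf.map (homOfLE (hle i)).op).hom)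
    (bijective_pieces hle hcov hdis) (P.comap e.symm) (f.normalization.presheaf.stalk x')

theorem max_of_max_image {x' : f.normalization} (hx : IsMax x') :
    ∃ y : Y, IsMax y ∧ f.toNormalization y = x' := by
  obtain ⟨y, hy, e⟩ := S9672.result f x' ((isMax_iff x').1 hx)
  exact ⟨y, (isMax_iff y).2 hy, e⟩

theorem eq_of_image_specializes (hY : Pi1.IsNormalScheme Y)
    (hfin : LocallyFinite (fun Z : ↥(irreducibleComponents ↥Y) => (Z : Set ↥Y))) {y y' : Y} (hy : IsMax y)
    (hy' : IsMax y') (hs : f.toNormalization y' ⤳ f.toNormalization y) : y' = y := by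
  classical
  obtain ⟨U, hU, hyU, -⟩ := exists_isAffineOpen_mem_and_subset (x := f y) (U := ⊤) trivial
  letI : Algebra Γ(X, U) Γ(Y, f ⁻¹ᵁ U) := (f.app U).hom.toAlgebra
  have hy'U : y' ∈ f ⁻¹ᵁ U := by
    have := (hs.map f.fromNormalization.continuous).mem_open U.2
    rw [← Scheme.Hom.comp_apply, ← Scheme.Hom.comp_apply, f.toNormalization_fromNormalization] at this
    exact this hyU
  obtain ⟨ι, hι, g, Z, hle, hg, hcov, hgen, hall, hdis⟩ := exists_pieces hY hfin _ (compact_preimage f hU)
  obtain ⟨i, hi⟩ := hall y hy hyU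
  obtain ⟨j, hj⟩ := hall y' hy' hy'U
  by_contra hne
  have hij : j ≠ i := fun h => hne (by rw [← hi, ← hj, h])
  obtain ⟨b, hb1, hb0, hbb⟩ := exists_idem (fun i => Γ(Y, Z i)) (fun i => (Y.presheaf.map (homOfLE (hle i)).op).hom)
    (bijective_pieces hle hcov hdis) i
  let a : Γ(f.normalization, f.fromNormalization ⁻¹ᵁ U) :=
    (f.normalizationObjIso hU).inv ⟨b, isIntegral_of_idem _ hbb⟩
  have e0 : f ⁻¹ᵁ U ≤ f.toNormalization ⁻¹ᵁ (f.fromNormalization ⁻¹ᵁ U) := (preimage_eq f U).ge
  have ha : f.toNormalization.appLE _ (f ⁻¹ᵁ U) e0 a = b := by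
    have h := ConcreteCategory.congr_hom (f.normalizationObjIso_hom_val hU) a
    refine h.symm.trans ?_
    rw [ConcreteCategory.comp_apply]
    show ((f.normalizationObjIso hU).hom ((f.normalizationObjIso hU).inv _)).1 = b
    rw [← ConcreteCategory.comp_apply (f.normalizationObjIso hU).inv, Iso.inv_hom_id]
    rfl
  have hiff : ∀ z ∈ f ⁻¹ᵁ U, f.toNormalization z ∈ f.normalization.basicOpen a ↔ z ∈ Y.basicOpen b := by
    intro z hz
    rw [← ha, Scheme.Hom.appLE, ConcreteCategory.comp_apply, Scheme.basicOpen_res, ← Scheme.preimage_basicOpen]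
    exact ⟨fun h => ⟨hz, h⟩, fun h => h.2⟩
  have h1 : y ∈ Y.basicOpen b := by
    have : g i ∈ Y.basicOpen (Y.presheaf.map (homOfLE (hle i)).op b) := by
      rw [show Y.presheaf.map (homOfLE (hle i)).op b = 1 from hb1, Scheme.basicOpen_of_isUnit _ isUnit_one]
      exact (hg i).2
    rw [Scheme.basicOpen_res] at this
    exact hi ▸ this.2
  have h2 : y' ∉ Y.basicOpen b := fun h => by
    have : g j ∈ Y.basicOpen (Y.presheaf.map (homOfLE (hle j)).op b) := by
      rw [Scheme.basicOpen_res]
      exact ⟨(hg j).2, hj ▸ h⟩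
    rw [show Y.presheaf.map (homOfLE (hle j)).op b = 0 from hb0 j hij, Scheme.basicOpen_zero] at this
    exact this
  exact h2 ((hiff y' hy'U).1 (hs.mem_open (f.normalization.basicOpen a).2 ((hiff y hyU).2 h1)))

theorem main (hY : Pi1.IsNormalScheme Y)
    (hfin : LocallyFinite (fun Z : ↥(irreducibleComponents ↥Y) => (Z : Set ↥Y))) :
    Pi1.IsNormalScheme f.normalization ∧
    LocallyFinite (fun Z : ↥(irreducibleComponents ↥f.normalization) => (Z : Set ↥f.normalization)) ∧
    (∀ y : Y, closure {y} ∈ irreducibleComponents ↥Y →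
      closure {f.toNormalization.base y} ∈ irreducibleComponents ↥f.normalization) ∧
    (∀ x' : ↥f.normalization, closure {x'} ∈ irreducibleComponents ↥f.normalization →
      ∃! y : Y, closure {y} ∈ irreducibleComponents ↥Y ∧ f.toNormalization.base y = x') := by
  refine ⟨isNormalScheme f hY hfin, fun x' => ?_, fun y hy => ?_, fun x' hx' => ?_⟩
  · obtain ⟨U, hU, hxU, -⟩ := exists_isAffineOpen_mem_and_subset (x := f.fromNormalization x') (U := ⊤) trivial
    refine ⟨(f.fromNormalization ⁻¹ᵁ U : f.normalization.Opens), (f.fromNormalization ⁻¹ᵁ U).2.mem_nhds hxU, ?_⟩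
    refine Set.Finite.of_finite_image (f := fun Z : ↥(irreducibleComponents ↥f.normalization) => (Z : Set ↥f.normalization))
      ?_ Subtype.val_injective.injOn
    refine ((finite_max hfin (compact_preimage f hU)).image fun y => closure {f.toNormalization y}).subset ?_
    rintro _ ⟨Z, ⟨z, hzZ, hzV⟩, rfl⟩
    obtain ⟨η, hη⟩ := QuasiSober.sober Z.2.1 (isClosed_of_mem_irreducibleComponents _ Z.2)
    have hmax : IsMax η := (isMax_iff η).2 (hη.def.symm ▸ Z.2)
    obtain ⟨y, hy, hye⟩ := max_of_max_image f hmax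
    refine ⟨y, ⟨hy, ?_⟩, (congrArg (fun w => closure ({w} : Set _)) hye).trans hη.def⟩
    have hηV : η ∈ f.fromNormalization ⁻¹ᵁ U := (hη.specializes hzZ).mem_open (f.fromNormalization ⁻¹ᵁ U).2 hzV
    rw [← hye] at hηV
    exact (preimage_eq f U).le hηV
  · refine (isMax_iff _).1 ?_
    obtain ⟨ξ, hξ, hmax⟩ := GenPtLib.exists_maximal (f.toNormalization y)
    obtain ⟨y', hy', rfl⟩ := max_of_max_image f hmax
    rw [eq_of_image_specializes f hY hfin ((isMax_iff y).2 hy) hy' hξ] at hmax
    exact hmax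
  · obtain ⟨y, hy, hye⟩ := max_of_max_image f ((isMax_iff x').2 hx')
    refine ⟨y, ⟨(isMax_iff y).1 hy, hye⟩, fun z hz => ?_⟩
    exact eq_of_image_specializes f hY hfin hy ((isMax_iff z).2 hz.1) (specializes_of_eq (hz.2.trans hye.symm))

end Groth.Agent.NormRelLib
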